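import Cfsg.Agent.H472.EP.Co1A
import Cfsg.Agent.H322.Eng.CoThirteen_m3
import Cfsg.Agent.H843.IMC.Co1D
import Cfsg.Agent.H394.PBTools_m3
import Cfsg.Agent.Prune
set_option linter.all false
prune_inst 0x7f00000000000000000000000000000000000000000000000000000000000000000000000000000000000000000000000000000000000000000000000000000000000000000000000000000000000000003fffffffffffffffffffffffffffbeffbdffffffff
open scoped Cfsg.Agent.FastGrp

/-!
# S4933: the rows `(Co1, 5)` and `(Co1, 3)` (helper912)

* `nb_five` : every irreducible character of `Co1` outside the principal 5-block has degree divisible by 25;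
* `pos_five` : the character of degree `80730` lies in the principal 5-block, 5-part of the degree exactly 5;
* `pos_three` : the character of degree `17250` lies in the principal 3-block, 3-part of the degree exactly 3;
* `good_co1_5`, `good_co1_3` : `Good 5 S`, `Good 3 S` for `S ≅ Co1`.
-/

set_option autoImplicit false
set_option maxRecDepth 100000

namespace Cfsg.Agent.H912.HT.CoOne

open Cfsg Subgroup Cfsg.Agent.H709.PB Cfsg.Agent.H468.HT
open Cfsg.Agent.H55.CoOneBd (card_co1 card_zero)

universe u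

theorem not_dvd {y : Spor.Co1} (hp : (orderOf y).Prime) (h5 : orderOf y ≠ 5) :
    ¬ 5 ^ 3 ∣ Nat.card ↥(centralizer ({y} : Set Spor.Co1)) := by
  have := Cfsg.Agent.H472.EP.Co1.fin
  intro hd
  by_cases h2 : orderOf y = 2
  · exact absurd (hd.trans (Cfsg.Agent.H898.WkCo1.inv_dvd h2)) (by norm_num)
  by_cases h3 : orderOf y = 3 ∧ Cfsg.Agent.LThreeMB.fr y = 1
  · rw [card_zero h3.1 h3.2] at hd
    revert hd
    norm_num
  · exact Cfsg.Agent.H316.VZ.CoOneCent.main hp h2 h5 (fun h hf => h3 ⟨h, hf⟩) (dvd_trans (by norm_num) hd)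

/-- **The characters outside the principal 5-block of `Co1` have degree divisible by 25.** -/
theorem nb_five : NB 5 2 Spor.Co1 := by
  have := Cfsg.Agent.H472.EP.Co1.fin
  have : Fact (Nat.Prime 5) := ⟨by norm_num⟩
  exact NB.of_orders (a := 4) (by rw [card_co1]; norm_num) fun y hy h5 => not_dvd hy h5

theorem pos_five : Pos 5 Spor.Co1 := by
  have := Cfsg.Agent.H472.EP.Co1.fin
  exact Pos.of_nb (by norm_num) nb_five Cfsg.Agent.H843.IMC.Co1D.hasDeg.2 (by norm_num) (by norm_num)

theorem pos_three : Pos 3 Spor.Co1 := by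
  have := Cfsg.Agent.H472.EP.Co1.fin
  exact Pos.of_nb (by norm_num) Cfsg.Agent.H472.EP.Co1.nb_three Cfsg.Agent.H843.IMC.Co1D.hasDeg.1 (by norm_num)
    (by norm_num)

/-- **`(Co1, 5)`** -/
theorem good_co1_5 {S : Type u} [Group S] (h : Spor.IsoCo1 S) : Good 5 S := by
  obtain ⟨e⟩ := h
  exact (pos_five.of_equiv e.symm).good

/-- **`(Co1, 3)`** -/
theorem good_co1_3 {S : Type u} [Group S] (h : Spor.IsoCo1 S) : Good 3 S := by
  obtain ⟨e⟩ := h
  exact (pos_three.of_equiv e.symm).good

end Cfsg.Agent.H912.HT.CoOne
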